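import Cfsg.Agent.H1.WA.TorusBasic
import Mathlib.GroupTheory.Transfer

/-!
# A central strongly closed `A` with a complement in a Sylow 2-subgroup

Transfer gives a complement of `A` in `C(A)`, averaging makes it invariant under `N(A)`; its part in
the Sylow subgroup is strongly closed, so the group is a direct product.
-/

set_option autoImplicit false
set_option linter.unusedSectionVars false
set_option linter.unusedVariables false
set_option linter.style.haveILetI false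

namespace Cfsg.Agent.H1.WA

open Subgroup Cfsg.Agent

universe u

local instance fact_two_torus_split : Fact (Nat.Prime 2) := ⟨Nat.prime_two⟩

variable {G : Type u} [Group G] [Finite G] {A : Subgroup G}

open scoped IsMulCommutative in
/-- A central subgroup with a complement in a Sylow subgroup has a retraction from `C(A)`
commuting with `N(A)` when the automizer has odd order. -/
theorem exists_invariant_retraction (hA : Cfsg.IsElementaryAbelian 2 A) (T : Sylow 2 G)
    (hTC : (T : Subgroup G) ≤ centralizer (A : Set G)) {R : Subgroup G} (hAT : A ≤ (T : Subgroup G))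
    (hdisj : A ⊓ R = ⊥) (hsplit : ∀ t ∈ (T : Subgroup G), ∃ a ∈ A, a⁻¹ * t ∈ R)
    (hRn : ∀ a ∈ A, ∀ r ∈ R, a * r = r * a) :
    ∃ f : ↥(centralizer (A : Set G)) →* G, (∀ c, f c ∈ A) ∧
      (∀ c : ↥(centralizer (A : Set G)), (c : G) ∈ A → f c = c) ∧
      ∀ n ∈ normalizer (A : Set G), ∀ c d : ↥(centralizer (A : Set G)),
        n * c * n⁻¹ = d → f d = n * f c * n⁻¹ := by
  classical
  set C := centralizer (A : Set G) with hC
  haveI := hA.1
  set H : Subgroup ↥C := (T : Subgroup G).subgroupOf C with hH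
  choose θ hθA hθR using fun t : ↥H => hsplit ((t : ↥C) : G) t.2
  have huniq : ∀ {a b s : G}, a ∈ A → b ∈ A → a⁻¹ * s ∈ R → b⁻¹ * s ∈ R → a = b := by
    intro a b s ha hb ha' hb'
    have h1 : a⁻¹ * b ∈ A ⊓ R := ⟨A.mul_mem (A.inv_mem ha) hb, by
      simpa [mul_assoc] using R.mul_mem ha' (R.inv_mem hb')⟩
    rw [hdisj, mem_bot] at h1
    exact inv_mul_eq_one.1 h1
  let θ' : ↥H →* ↥A :=
    { toFun := fun t => ⟨θ t, hθA t⟩
      map_one' := Subtype.ext (huniq (hθA 1) (one_mem _) (hθR 1) (by simp [one_mem]))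
      map_mul' := fun s t => Subtype.ext (huniq (hθA (s * t)) (mul_mem (hθA s) (hθA t)) (hθR _) (by
        have h1 := R.mul_mem (hθR s) (hθR t)
        have hc : (θ t)⁻¹ * ((θ s)⁻¹ * ((s : ↥C) : G)) = (θ s)⁻¹ * ((s : ↥C) : G) * (θ t)⁻¹ := by
          exact hRn _ (inv_mem (hθA t)) _ (hθR s)
        show (θ s * θ t)⁻¹ * (((s * t : ↥H) : ↥C) : G) ∈ R
        rw [mul_inv_rev, Subgroup.coe_mul, Subgroup.coe_mul,
          show (θ t)⁻¹ * (θ s)⁻¹ * (((s : ↥C) : G) * ((t : ↥C) : G)) =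
            ((θ t)⁻¹ * ((θ s)⁻¹ * ((s : ↥C) : G))) * ((t : ↥C) : G) by group, hc]
        simpa [mul_assoc] using h1)) }
  set τ : ↥C →* ↥A := MonoidHom.transfer θ'
  have hodd : Odd H.index := by
    have h1 : H.index ∣ (T : Subgroup G).index := relIndex_dvd_index_of_le hTC
    exact (Nat.odd_iff.2 (Nat.two_dvd_ne_zero.1 T.not_dvd_index)).of_dvd_nat h1
  have hτ : ∀ c : ↥C, (c : G) ∈ A → (τ c : G) = c := by
    intro c hc
    have hcen : ∀ (i : ℕ) (g : ↥C), g⁻¹ * c ^ i * g = c ^ i := fun i g => Subtype.ext (by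
      have h1 : (g : G) * (c : G) ^ i = (c : G) ^ i * g :=
        (mem_centralizer_iff.1 g.2 _ (pow_mem hc i)).symm
      push_cast
      rw [mul_assoc, ← h1, inv_mul_cancel_left])
    have h := MonoidHom.transfer_eq_pow θ' c (fun i g _ => hcen i g)
    have hsq : (c : G) * c = 1 := by rw [← pow_two]; exact hA.2 _ hc
    obtain ⟨i, hi⟩ := hodd
    have hp : ((c ^ H.index : ↥C) : G) = c := by
      rw [hi]; push_cast; rw [pow_succ, pow_mul, pow_two, hsq, one_pow, one_mul]
    rw [show τ c = MonoidHom.transfer θ' c from rfl, h]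
    exact huniq (hθA _) hc (hθR _) (by rw [hp]; simp [one_mem])
  -- averaging
  set N := normalizer (A : Set G) with hN
  have hCN : C ≤ N := centralizer_le_normalizer _
  have hconjC : ∀ n ∈ N, ∀ c ∈ C, n * c * n⁻¹ ∈ C := by
    intro n hn c hc
    refine mem_centralizer_iff.2 fun a ha => ?_
    have h1 := mem_centralizer_iff.1 hc _ ((mem_normalizer_iff.1 (inv_mem hn) a).1 ha)
    calc a * (n * c * n⁻¹) = n * ((n⁻¹ * a * n⁻¹⁻¹) * c) * n⁻¹ := by group
      _ = n * (c * (n⁻¹ * a * n⁻¹⁻¹)) * n⁻¹ := by rw [h1]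
      _ = n * c * n⁻¹ * a := by group
  let act : ↥N → ↥C → ↥A := fun n c =>
    ⟨(n : G) * (τ ⟨(n : G)⁻¹ * (c : G) * (n : G)⁻¹⁻¹, hconjC _ (inv_mem n.2) _ c.2⟩ : G) * (n : G)⁻¹,
      (mem_normalizer_iff.1 n.2 _).1 (τ _).2⟩
  have hact : ∀ n m : ↥N, (QuotientGroup.leftRel (C.subgroupOf N)).r n m → act n = act m := by
    intro n m hnm
    rw [QuotientGroup.leftRel_apply, mem_subgroupOf] at hnm
    funext c
    refine Subtype.ext ?_
    set d : ↥C := ⟨_, hnm⟩
    have hd : (m : G) = n * d := by simp [d]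
    have h1 : (⟨(m : G)⁻¹ * c * (m : G)⁻¹⁻¹, hconjC _ (inv_mem m.2) _ c.2⟩ : ↥C) =
        d⁻¹ * ⟨(n : G)⁻¹ * c * (n : G)⁻¹⁻¹, hconjC _ (inv_mem n.2) _ c.2⟩ * d :=
      Subtype.ext (by push_cast; rw [hd]; group)
    show (n : G) * _ * (n : G)⁻¹ = (m : G) * _ * (m : G)⁻¹
    rw [h1, map_mul, map_mul, map_inv, inv_mul_cancel_comm, hd]
    have h2 := mem_centralizer_iff.1 d.2 _
      (τ (⟨(n : G)⁻¹ * c * (n : G)⁻¹⁻¹, hconjC _ (inv_mem n.2) _ c.2⟩ : ↥C)).2
    generalize (τ (⟨(n : G)⁻¹ * c * (n : G)⁻¹⁻¹, hconjC _ (inv_mem n.2) _ c.2⟩ : ↥C) : G) = a at h2 ⊢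
    rw [show ((n : G) * d) * a * ((n : G) * d)⁻¹ = (n : G) * ((d : G) * a * (d : G)⁻¹) * (n : G)⁻¹
      by group, ← h2, mul_inv_cancel_right]
  let Q := ↥N ⧸ C.subgroupOf N
  haveI : Fintype Q := Fintype.ofFinite _
  let actQ : Q → ↥C → ↥A := Quotient.lift act hact
  let F : ↥C →* ↥A :=
    { toFun := fun c => ∏ q, actQ q c
      map_one' := Finset.prod_eq_one fun q _ => by
        induction q using QuotientGroup.induction_on with
        | _ n => exact Subtype.ext (by
            show (n : G) * _ * (n : G)⁻¹ = 1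
            rw [show (⟨(n : G)⁻¹ * ((1 : ↥C) : G) * (n : G)⁻¹⁻¹, _⟩ : ↥C) = 1 from
              Subtype.ext (by simp), map_one]
            simp)
      map_mul' := fun c d => by
        rw [← Finset.prod_mul_distrib]
        refine Finset.prod_congr rfl fun q _ => ?_
        induction q using QuotientGroup.induction_on with
        | _ n => exact Subtype.ext (by
            show (n : G) * _ * (n : G)⁻¹ = (n : G) * _ * (n : G)⁻¹ * ((n : G) * _ * (n : G)⁻¹)
            rw [show (⟨(n : G)⁻¹ * ((c * d : ↥C) : G) * (n : G)⁻¹⁻¹,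
              hconjC _ (inv_mem n.2) _ (c * d).2⟩ : ↥C) =
                ⟨_, hconjC _ (inv_mem n.2) _ c.2⟩ * ⟨_, hconjC _ (inv_mem n.2) _ d.2⟩ from
              Subtype.ext (by push_cast; group), map_mul, Subgroup.coe_mul]
            group) }
  refine ⟨A.subtype.comp F, fun c => (F c).2, fun c hc => ?_, fun n hn c d e => ?_⟩
  · have hq : ∀ q : Q, actQ q c = ⟨c, hc⟩ := fun q => by
      induction q using QuotientGroup.induction_on with
      | _ n => exact Subtype.ext (by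
          show (n : G) * _ * (n : G)⁻¹ = c
          rw [hτ _ ((mem_normalizer_iff.1 (inv_mem n.2) _).1 hc)]
          simp [mul_assoc])
    show ((∏ q, actQ q c : ↥A) : G) = c
    rw [Finset.prod_congr rfl (fun q _ => hq q), Finset.prod_const, Finset.card_univ,
      ← Nat.card_eq_fintype_card]
    have hoddQ : Odd (Nat.card Q) := by
      have h1 : (C.subgroupOf N).index ∣ (T : Subgroup G).index :=
        (Dvd.intro_left _ (relIndex_mul_relIndex _ _ _ hTC hCN)).trans
          (relIndex_dvd_index_of_le (hTC.trans hCN))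
      exact (Nat.odd_iff.2 (Nat.two_dvd_ne_zero.1 T.not_dvd_index)).of_dvd_nat h1
    obtain ⟨i, hi⟩ := hoddQ
    rw [hi]
    push_cast
    rw [pow_succ, pow_mul, hA.2 _ hc, one_pow, one_mul]
  · let conjN : ↥A →* ↥A :=
      { toFun := fun a => ⟨n * a * n⁻¹, (mem_normalizer_iff.1 hn _).1 a.2⟩
        map_one' := Subtype.ext (by simp)
        map_mul' := fun a b => Subtype.ext (by
          show n * ((a : G) * b) * n⁻¹ = n * a * n⁻¹ * (n * b * n⁻¹); group) }
    show (F d : G) = (conjN (F c) : G)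
    refine congrArg Subtype.val ?_
    show ∏ q, actQ q d = conjN (∏ q, actQ q c)
    rw [map_prod]
    let e' : Q ≃ Q := MulAction.toPerm (⟨n, hn⟩ : ↥N)
    refine (Equiv.prod_comp e' (fun q => actQ q d)).symm.trans (Finset.prod_congr rfl fun q _ => ?_)
    induction q using QuotientGroup.induction_on with
    | _ m => exact Subtype.ext (by
        show (n * (m : G)) * (τ ⟨(n * (m : G))⁻¹ * (d : G) * (n * (m : G))⁻¹⁻¹,
          hconjC _ (inv_mem (N.mul_mem hn m.2)) _ d.2⟩ : G) * (n * (m : G))⁻¹ =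
            n * ((m : G) * _ * (m : G)⁻¹) * n⁻¹
        rw [show (⟨(n * (m : G))⁻¹ * (d : G) * (n * (m : G))⁻¹⁻¹, _⟩ : ↥C) =
          ⟨(m : G)⁻¹ * c * (m : G)⁻¹⁻¹, hconjC _ (inv_mem m.2) _ c.2⟩ from
          Subtype.ext (by
            show (n * (m : G))⁻¹ * (d : G) * (n * (m : G))⁻¹⁻¹ = (m : G)⁻¹ * c * (m : G)⁻¹⁻¹
            rw [← e]; group)]
        group)

/-- Then the group is not simple. -/
theorem not_split [IsSimpleGroup G] (hna : ¬ IsMulCommutative G) (hA : Cfsg.IsElementaryAbelian 2 A)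
    (hA1 : A ≠ ⊥) (T : Sylow 2 G) (hsc : Cfsg.IsStronglyClosed A (T : Subgroup G))
    (hTC : (T : Subgroup G) ≤ centralizer (A : Set G)) {R : Subgroup G} (hR1 : R ≠ ⊥)
    (hRT : R ≤ (T : Subgroup G)) (hdisj : A ⊓ R = ⊥)
    (hsplit : ∀ t ∈ (T : Subgroup G), ∃ a ∈ A, a⁻¹ * t ∈ R) : False := by
  have hRn : ∀ a ∈ A, ∀ r ∈ R, a * r = r * a := fun a ha r hr =>
    mem_centralizer_iff.1 (hTC (hRT hr)) a ha
  obtain ⟨f, hfA, hfid, hfinv⟩ :=
    exists_invariant_retraction hA T hTC hsc.1 hdisj hsplit hRn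
  set R₀ : Subgroup G := f.ker.map (centralizer (A : Set G)).subtype ⊓ (T : Subgroup G) with hR₀
  have hker : ∀ {x : G} (hx : x ∈ centralizer (A : Set G)),
      x ∈ f.ker.map (centralizer (A : Set G)).subtype ↔ f ⟨x, hx⟩ = 1 := fun {x} hx =>
    ⟨fun ⟨c, hc, e⟩ => by
        rw [show (⟨x, hx⟩ : ↥(centralizer (A : Set G))) = c from Subtype.ext e.symm]
        exact MonoidHom.mem_ker.1 hc,
      fun h => ⟨⟨x, hx⟩, h, rfl⟩⟩
  have hw : Cfsg.IsWeaklyClosed A (T : Subgroup G) := ⟨hsc.1, fun g hg =>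
    eq_of_le_of_card_ge (by
      rintro _ ⟨a, ha, rfl⟩
      exact hsc.2 a ha g (hg ⟨a, ha, rfl⟩)) (H39.card_map_conj A g).ge⟩
  have hctrl := Fusion.controls_of_weaklyClosed_central T (le_centralizer_iff.1 hTC) hw
  have hR₀sc : Cfsg.IsStronglyClosed R₀ (T : Subgroup G) := by
    refine ⟨inf_le_right, fun x hx g hg => ?_⟩
    obtain ⟨k, hk, e⟩ := hctrl x hx.2 g hg
    refine ⟨(hker (hTC hg)).2 ?_, hg⟩
    rw [hfinv k hk ⟨x, hTC hx.2⟩ ⟨_, hTC hg⟩ e, (hker (hTC hx.2)).1 hx.1]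
    simp
  have hp : H52.Commuting.Pair T A R₀ := by
    refine ⟨hsc, hR₀sc, fun a ha b hb => mem_centralizer_iff.1 (hTC hb.2) a ha, ?_⟩
    refine (eq_bot_iff_forall _).2 fun x hx => ?_
    exact (hfid ⟨x, hTC hx.2.2⟩ hx.1).symm.trans ((hker (hTC hx.2.2)).1 hx.2.1)
  have htop : A ⊔ R₀ = (T : Subgroup G) := by
    refine le_antisymm (sup_le hsc.1 inf_le_right) fun t ht => ?_
    set a := f ⟨t, hTC ht⟩
    have ha : a ∈ A := hfA _
    have haC : a ∈ centralizer (A : Set G) := le_cent_self hA ha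
    have h1 : a⁻¹ * t ∈ R₀ := by
      refine ⟨(hker (mul_mem (inv_mem haC) (hTC ht))).2 ?_,
        (T : Subgroup G).mul_mem ((T : Subgroup G).inv_mem (hsc.1 ha)) ht⟩
      rw [show (⟨a⁻¹ * t, mul_mem (inv_mem haC) (hTC ht)⟩ : ↥(centralizer (A : Set G))) =
        ⟨a, haC⟩⁻¹ * ⟨t, hTC ht⟩ from rfl, map_mul, map_inv, hfid ⟨a, haC⟩ ha, inv_mul_cancel]
    simpa using mul_mem (mem_sup_left (T := R₀) ha) (mem_sup_right (S := A) h1)
  have hO : Cfsg.oddCore G = ⊥ := by
    rcases (show (Cfsg.oddCore G).Normal from inferInstance).eq_bot_or_eq_top with e | e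
    · exact e
    · exfalso
      have hodd : Odd (Nat.card G) := by
        have := Cores.odd_card_oddCore (G := G)
        rwa [e, card_top] at this
      haveI := Cfsg.Agent.S0205.result hodd
      exact hna ⟨⟨fun a b => IsSimpleGroup.comm_iff_isSolvable.2 inferInstance a b⟩⟩
  have hO' : ∀ N : Subgroup G, N.Normal → Odd N.index → N = ⊤ := by
    intro N hN hodd
    refine hN.eq_bot_or_eq_top.resolve_left fun e => ?_
    rw [e, index_bot] at hodd
    haveI := Cfsg.Agent.S0205.result hodd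
    exact hna ⟨⟨fun a b => IsSimpleGroup.comm_iff_isSolvable.2 inferInstance a b⟩⟩
  obtain ⟨⟨-, -, -, hinf, -⟩, -, -⟩ := H52.Commuting.exists_product hp hO hO' htop
  have h1 : normalClosure (A : Set G) = ⊤ := (normalClosure_normal (s := (A : Set G))).eq_bot_or_eq_top.resolve_left
    fun e => hA1 (le_bot_iff.1 ((subset_normalClosure (s := (A : Set G))).trans e.le))
  have hR₀1 : R₀ ≠ ⊥ := by
    intro e
    rw [e, sup_bot_eq] at htop
    refine hR1 (le_bot_iff.1 (hdisj ▸ le_inf (htop.symm ▸ hRT) le_rfl))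
  have h2 : normalClosure (R₀ : Set G) = ⊤ := (normalClosure_normal (s := (R₀ : Set G))).eq_bot_or_eq_top.resolve_left
    fun e => hR₀1 (le_bot_iff.1 ((subset_normalClosure (s := (R₀ : Set G))).trans e.le))
  rw [h1, h2, top_inf_eq] at hinf
  exact top_ne_bot hinf

end Cfsg.Agent.H1.WA
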