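import Cfsg.Agent.H1.WA.TorusLink
import Cfsg.Agent.H1.WA.TorusSplit

/-!
# The torus step of the case `|A| = 4`

A largest 2-subgroup of some `C(A) ∩ C(z)`, `z` toral, is elementary of order 8 or 16 and an element
normalising it moves everything outside `A`.
-/

set_option autoImplicit false
set_option linter.unusedSectionVars false
set_option linter.unusedVariables false
set_option linter.style.haveILetI false

namespace Cfsg.Agent.H1.WA

open Subgroup Cfsg.Agent
open Cfsg.Agent.H88.Walter (Bb cen mem_pre)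
open Cfsg.Agent.H77.WA

universe u

local instance fact_two_torus_step : Fact (Nat.Prime 2) := ⟨Nat.prime_two⟩

variable {G : Type u} [Group G] [Finite G] {S : Sylow 2 G} {A : Subgroup G} {z : G}

/-- A Sylow 2-subgroup containing `A` centralises it, and `A` is strongly closed in it. -/
theorem sylow_facts (h : TwoCfg S A) (S' : Sylow 2 G) (hA : A ≤ (S' : Subgroup G)) :
    (S' : Subgroup G) ≤ centralizer (A : Set G) ∧ Cfsg.IsStronglyClosed A (S' : Subgroup G) := by
  obtain ⟨c, hc⟩ := H39.exists_conj_le_sylow S'.isPGroup' S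
  have hcA : c ∈ normalizer (A : Set G) := H39.mem_normalizer_of_conj_mem fun a ha =>
    h.cfg.closed.2 a ha c (hc a (hA ha))
  refine ⟨fun s hs => mem_centralizer_iff.2 fun a ha => ?_, hA, fun a ha g hg => ?_⟩
  · have h1 := mem_centralizer_iff.1 (h.cent (hc s hs)) _ ((mem_normalizer_iff.1 hcA a).1 ha)
    calc a * s = c⁻¹ * (c * a * c⁻¹ * (c * s * c⁻¹)) * c := by group
      _ = c⁻¹ * (c * s * c⁻¹ * (c * a * c⁻¹)) * c := by rw [h1]
      _ = s * a := by group
  · have h1 := h.cfg.closed.2 a ha (c * g) (by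
      rw [show c * g * a * (c * g)⁻¹ = c * (g * a * g⁻¹) * c⁻¹ by group]; exact hc _ hg)
    rw [show c * g * a * (c * g)⁻¹ = c * (g * a * g⁻¹) * c⁻¹ by group] at h1
    exact (mem_normalizer_iff.1 hcA _).2 h1

/-- `T` is as large as possible among the 2-subgroups of the `C(A) ∩ C(t)`, `t` toral. -/
structure Largest (A : Subgroup G) (z : G) (T : Subgroup G) : Prop where
  toral : Toral A z
  two : IsPGroup 2 T
  le : T ≤ centTwo A z
  max : ∀ t : G, Toral A t → ∀ P : Subgroup G, IsPGroup 2 P → P ≤ centTwo A t →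
    Nat.card P ≤ Nat.card T

theorem exists_largest (h : ∃ z, Toral A z) : ∃ z T, Largest A z T := by
  obtain ⟨z, hz⟩ := h
  obtain ⟨p, ⟨hp1, hp2, hp3⟩, hmax⟩ := Set.exists_max_image
    {p : G × Subgroup G | Toral A p.1 ∧ IsPGroup 2 p.2 ∧ p.2 ≤ centTwo A p.1}
    (fun p => Nat.card p.2) (Set.toFinite _) ⟨(z, ⊥), hz, IsPGroup.of_bot, bot_le⟩
  exact ⟨p.1, p.2, hp1, hp2, hp3, fun t ht P hP hle => hmax (t, P) ⟨ht, hP, hle⟩⟩

/-- A normal 2-subgroup generated by squares meets the centre in an involution. -/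
theorem exists_central_square {P T : Subgroup G} (hP : IsPGroup 2 P) (hTP : T ≤ P)
    (hn : P ≤ normalizer (T : Set G)) (hne : ∃ t ∈ T, t * t ≠ 1) :
    ∃ x ∈ Subgroup.closure ((fun t => t * t) '' (T : Set G)), orderOf x = 2 ∧
      P ≤ centralizer ({x} : Set G) := by
  set D := Subgroup.closure ((fun t => t * t) '' (T : Set G)) with hD
  have hDT : D ≤ T := (Subgroup.closure_le _).2 (by rintro _ ⟨t, ht, rfl⟩; exact mul_mem ht ht)
  have hDn : P ≤ normalizer (D : Set G) := fun p hp => H39.mem_normalizer_of_conj_mem fun y hy => by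
    have h1 : D.map (MulAut.conj p).toMonoidHom ≤ D := by
      rw [hD, MonoidHom.map_closure]
      refine Subgroup.closure_mono ?_
      rintro _ ⟨_, ⟨t, ht, rfl⟩, rfl⟩
      exact ⟨p * t * p⁻¹, (mem_normalizer_iff.1 (hn hp) t).1 ht, by simp [mul_assoc]⟩
    exact h1 ⟨y, hy, rfl⟩
  haveI : (D.subgroupOf P).Normal := normal_subgroupOf_of_le_normalizer hDn
  obtain ⟨t, ht, ht1⟩ := hne
  have hD1 : D.subgroupOf P ≠ ⊥ := fun e => ht1 (by
    have h1 : t * t ∈ D := Subgroup.subset_closure ⟨t, ht, rfl⟩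
    have h2 : (⟨t * t, hTP (hDT h1)⟩ : ↥P) ∈ D.subgroupOf P := mem_subgroupOf.2 h1
    rw [e, mem_bot] at h2
    exact congrArg Subtype.val h2)
  have hI := PGroups.inf_center_ne_bot hP (D.subgroupOf P) hD1
  set Z := (D.subgroupOf P ⊓ center ↥P).map P.subtype with hZ
  have hZ1 : Z ≠ ⊥ := fun e => hI ((map_eq_bot_iff_of_injective _ P.subtype_injective).1 e)
  obtain ⟨x, ⟨x', hx', rfl⟩, hxo, -⟩ :=
    Components.exists_central_orderOf (T := Z) (hP.to_le (map_subtype_le _)) hZ1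
  exact ⟨_, mem_subgroupOf.1 hx'.1, hxo, fun p hp => mem_centralizer_singleton_iff.2
    (congrArg Subtype.val (mem_center_iff.1 hx'.2 ⟨p, hp⟩))⟩

variable (htf : TypeFacts.{u}) (hbs : BarStruct.{u})
include htf hbs

/-- A largest `T` is elementary of order 8 or 16, with an element moving all of `T ∖ A`. -/
theorem largest_facts (h : TwoCfg S A) {T : Subgroup G} (hm : Largest A z T) :
    Cfsg.IsElementaryAbelian 2 T ∧ A ≤ T ∧ z ∈ T ∧ (Nat.card T = 8 ∨ Nat.card T = 16) ∧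
      ∃ n ∈ centralizer (A : Set G) ⊓ normalizer (T : Set G),
        (∀ t ∈ T, Commute n t → t ∈ A) ∧ ∀ t ∈ T, n * t * n⁻¹ * t⁻¹ ∈ A := by
  have hA := h.cfg.elem
  obtain ⟨hzc, hz2, hzA⟩ := hm.toral.1
  obtain ⟨L, hL⟩ := frame_of_toral htf hbs h hm.toral
  have hTA : T ≤ centralizer (A : Set G) := hm.le.trans inf_le_left
  have hTz : T ≤ centralizer ({z} : Set G) := hm.le.trans inf_le_right
  -- `A` and `z` lie in `T`
  have hzz : z ∈ centralizer ({z} : Set G) := mem_centralizer_singleton_iff.2 rfl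
  have hzp : IsPGroup 2 ↥(zpowers z) :=
    IsPGroup.of_card (n := 1) (by rw [Nat.card_zpowers, hz2, pow_one])
  have hBp : IsPGroup 2 ↥(zpowers z ⊔ A : Subgroup G) :=
    hzp.to_sup_of_normal_right' (isPGroup_of_elem hA)
      (zpowers_le.2 (centralizer_le_normalizer _ hzc))
  have hBc : T ≤ centralizer ((zpowers z ⊔ A : Subgroup G) : Set G) := le_centralizer_iff.1
    (sup_le (zpowers_le.2 (mem_centralizer_iff.2 fun t ht => mem_centralizer_singleton_iff.1 (hTz ht)))
      (le_centralizer_iff.1 hTA))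
  have hBT : zpowers z ⊔ A ≤ T := by
    have h1 := hm.max z hm.toral _
      (hm.two.to_sup_of_normal_right' hBp (hBc.trans (centralizer_le_normalizer _)))
      (sup_le hm.le (sup_le (zpowers_le.2 ⟨hzc, hzz⟩) (le_centTwo hA hzc)))
    rw [eq_of_le_of_card_ge le_sup_left h1]
    exact le_sup_right
  have hAT : A ≤ T := le_sup_right.trans hBT
  have hzT : z ∈ T := hBT (mem_sup_left (mem_zpowers z))
  -- the splitting
  set R := T ⊓ cen z L with hR
  have hsplit : ∀ t ∈ T, ∃ a ∈ A, a⁻¹ * t ∈ R := fun t ht => by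
    obtain ⟨k, hk⟩ := hm.two ⟨t, ht⟩
    obtain ⟨a, ha, hc⟩ := exists_split htf hbs h hzc hz2 hL (hm.le ht)
      ⟨k, by simpa using congrArg Subtype.val hk⟩
    exact ⟨a, ha, T.mul_mem (T.inv_mem (hAT ha)) ht, hc⟩
  have hdisj : A ⊓ R = ⊥ := le_bot_iff.1 ((inf_le_inf le_rfl inf_le_right).trans
    (inf_cen_eq_bot htf hbs h hzc hL).le)
  have hnotA : ∀ {r : G}, r ∈ R → r ≠ 1 → r ∉ A := fun {r} hr hr1 hrA => by
    have h1 : r ∈ A ⊓ R := ⟨hrA, hr⟩
    rw [hdisj, mem_bot] at h1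
    exact hr1 h1
  have htoral : ∀ {r : G}, r ∈ R → orderOf r = 2 → Toral A r := fun {r} hr hr2 =>
    toral_of_cen htf hbs h hm.toral.1 hL
      ⟨hTA hr.1, hr2, hnotA hr (fun e => by rw [e, orderOf_one] at hr2; exact absurd hr2 (by decide))⟩
      hr.2
  have hzR : z ∈ R := ⟨hzT, self_mem_cen L⟩
  -- `T` is no Sylow subgroup
  obtain ⟨S', hS'⟩ := hm.two.exists_le_sylow
  obtain ⟨hS'A, hS'sc⟩ := sylow_facts h S' (hAT.trans hS')
  have hne : T ≠ (S' : Subgroup G) := fun e => by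
    haveI := h.cfg.simple
    refine not_split h.cfg.nonab hA h.cfg.ne_bot S' hS'sc hS'A (R := R)
      (fun e' => hzA ?_) (inf_le_left.trans hS') hdisj (fun t ht => hsplit t (e ▸ ht))
    rw [e', mem_bot] at hzR
    exact hzR ▸ one_mem A
  obtain ⟨p₀, hp₀S, hp₀T, hp₀N⟩ :=
    H39.exists_mem_normalizer_not_mem S'.isPGroup' (lt_of_le_of_ne hS' hne)
  set P := (S' : Subgroup G) ⊓ normalizer (T : Set G) with hP
  have hTP : T ≤ P := le_inf hS' le_normalizer
  have hPp : IsPGroup 2 P := S'.isPGroup'.to_le inf_le_left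
  have hcard : ∀ Q : Subgroup G, T ≤ Q → ∀ p ∈ Q, p ∉ T → Nat.card T < Nat.card Q :=
    fun Q hTQ p hp hpT => lt_of_le_of_ne (Nat.le_of_dvd Nat.card_pos (card_dvd_of_le hTQ))
      fun e => hpT (eq_of_le_of_card_ge hTQ e.ge ▸ hp)
  -- `T` is elementary
  have hsq : ∀ t ∈ T, t * t = 1 := by
    by_contra! hne'
    obtain ⟨x, hx, hx2, hPx⟩ := exists_central_square hPp hTP inf_le_right hne'
    have hxR : x ∈ R := by
      refine (Subgroup.closure_le _).2 ?_ hx
      rintro _ ⟨t, ht, rfl⟩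
      obtain ⟨a, ha, hr⟩ := hsplit t ht
      have e : a⁻¹ * t * (a⁻¹ * t) = t * t := by
        have hc := mem_centralizer_iff.1 (hTA ht) _ (inv_mem ha)
        calc a⁻¹ * t * (a⁻¹ * t) = a⁻¹ * (t * a⁻¹) * t := by group
          _ = a⁻¹ * a⁻¹ * (t * t) := by rw [← hc]; group
          _ = t * t := by rw [← mul_inv_rev, sq_of_mem hA ha]; simp
      show t * t ∈ R
      rw [← e]
      exact R.mul_mem hr hr
    exact absurd (hm.max x (htoral hxR hx2) P hPp (le_inf (inf_le_left.trans hS'A) hPx))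
      (not_le.2 (hcard P hTP p₀ ⟨hp₀S, hp₀N⟩ hp₀T))
  have hcommT : ∀ a ∈ T, ∀ b ∈ T, a * b = b * a := fun a ha b hb => by
    have h1 : b⁻¹ = b := inv_eq_of_mul_eq_one_right (hsq b hb)
    have h2 : a⁻¹ = a := inv_eq_of_mul_eq_one_right (hsq a ha)
    have h3 : (a * b)⁻¹ = a * b := inv_eq_of_mul_eq_one_right (hsq _ (mul_mem ha hb))
    rw [← h3, mul_inv_rev, h1, h2]
  have helem : Cfsg.IsElementaryAbelian 2 T :=
    ⟨⟨⟨fun a b => Subtype.ext (hcommT a a.2 b b.2)⟩⟩, fun t ht => by rw [pow_two]; exact hsq t ht⟩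
  -- no element of `P ∖ T` centralises anything outside `A`
  have hfix : ∀ p ∈ P, p ∉ T → ∀ t ∈ T, Commute p t → t ∈ A := by
    intro p hp hpT t ht hpt
    obtain ⟨a, ha, hr⟩ := hsplit t ht
    by_cases hr1 : a⁻¹ * t = 1
    · rwa [← inv_mul_eq_one.1 hr1]
    exfalso
    set r := a⁻¹ * t
    have hr2 : orderOf r = 2 := orderOf_eq_prime (by rw [pow_two]; exact hsq r hr.1) hr1
    have hpc : p ∈ centralizer (A : Set G) := hS'A hp.1
    have hpr : Commute p r :=
      (show Commute p a⁻¹ from (mem_centralizer_iff.1 hpc _ (inv_mem ha)).symm).mul_right hpt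
    have hQ : T ⊔ zpowers p ≤ centTwo A r := sup_le
      (le_inf hTA fun s hs => mem_centralizer_singleton_iff.2 (hcommT s hs r hr.1))
      (zpowers_le.2 ⟨hpc, mem_centralizer_singleton_iff.2 hpr.eq⟩)
    exact absurd (hm.max r (htoral hr hr2) (T ⊔ zpowers p)
        (hPp.to_le (sup_le hTP (zpowers_le.2 hp))) hQ)
      (not_le.2 (hcard _ le_sup_left p (mem_sup_right (mem_zpowers p)) hpT))
  -- an element with square in `T`
  obtain ⟨n, hnP, hnT, hnn⟩ : ∃ n ∈ P, n ∉ T ∧ n * n ∈ T := by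
    by_contra! hc
    obtain ⟨k, hk⟩ := hPp ⟨p₀, hp₀S, hp₀N⟩
    have h1 : ∀ i : ℕ, p₀ ^ 2 ^ i ∉ T := by
      intro i
      induction i with
      | zero => simpa using hp₀T
      | succ i ih =>
        rw [pow_succ, pow_mul, pow_two]
        exact hc _ (pow_mem (show p₀ ∈ P from ⟨hp₀S, hp₀N⟩) _) ih
    exact h1 k (by rw [show p₀ ^ 2 ^ k = 1 by simpa using congrArg Subtype.val hk]; exact one_mem T)
  have hnN : n ∈ normalizer (T : Set G) := hnP.2
  have hcomA : ∀ t ∈ T, n * t * n⁻¹ * t⁻¹ ∈ A := by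
    intro t ht
    have hnt := (mem_normalizer_iff.1 hnN t).1 ht
    set y := n * t * n⁻¹ * t⁻¹ with hy
    have hyT : y ∈ T := mul_mem hnt (inv_mem ht)
    refine hfix n hnP hnT y hyT ?_
    have h1 : n * n * t * (n * n)⁻¹ = t := by rw [hcommT _ hnn _ ht, mul_inv_cancel_right]
    have h2 : n * y * n⁻¹ = y := by
      calc n * y * n⁻¹ = n * n * t * (n * n)⁻¹ * (n * t * n⁻¹)⁻¹ := by rw [hy]; group
        _ = y⁻¹ := by rw [h1, hy]; group
        _ = y := inv_eq_of_mul_eq_one_right (hsq y hyT)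
    exact mul_inv_eq_iff_eq_mul.1 h2
  have hT8 : Nat.card T = 8 ∨ Nat.card T = 16 := by
    obtain ⟨k, hk⟩ := IsPGroup.iff_card.1 hm.two
    have hlt : 4 < Nat.card T := by
      have := hcard T le_rfl
      refine h.card ▸ lt_of_le_of_ne (Nat.le_of_dvd Nat.card_pos (card_dvd_of_le hAT)) fun e => hzA ?_
      exact (eq_of_le_of_card_ge hAT e.ge).symm ▸ hzT
    let f : ↥T →* ↥A :=
      { toFun := fun t => ⟨n * t * n⁻¹ * (t : G)⁻¹, hcomA t t.2⟩
        map_one' := Subtype.ext (by simp)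
        map_mul' := fun s t => Subtype.ext (by
          show n * ((s : G) * t) * n⁻¹ * ((s : G) * t)⁻¹ =
            n * s * n⁻¹ * (s : G)⁻¹ * (n * t * n⁻¹ * (t : G)⁻¹)
          have h1 := hcommT (s : G)⁻¹ (inv_mem s.2) _ (mul_mem
            ((mem_normalizer_iff.1 hnN t).1 t.2) (inv_mem t.2))
          calc n * ((s : G) * t) * n⁻¹ * ((s : G) * t)⁻¹
              = n * s * n⁻¹ * ((n * t * n⁻¹ * (t : G)⁻¹) * (s : G)⁻¹) := by group
            _ = n * s * n⁻¹ * (s : G)⁻¹ * (n * t * n⁻¹ * (t : G)⁻¹) := by rw [← h1]; group) }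
    have h3 : Nat.card ↥f.ker ≤ Nat.card A := by
      refine Nat.card_le_card_of_injective (fun x => (⟨(x.1 : G), hfix n hnP hnT _ x.1.2
        (mul_inv_eq_iff_eq_mul.1 (mul_inv_eq_one.1
          (congrArg Subtype.val (MonoidHom.mem_ker.1 x.2))))⟩ : ↥A)) ?_
      exact fun x y e => Subtype.ext (Subtype.ext (congrArg (fun w : ↥A => (w : G)) e))
    have h4 : Nat.card T ≤ Nat.card A * Nat.card A := by
      rw [← Subgroup.card_mul_index f.ker, index_ker]
      exact Nat.mul_le_mul h3 (Nat.card_le_card_of_injective _ Subtype.val_injective)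
    rw [h.card] at h4
    rw [hk] at h4 hlt ⊢
    have hk5 : k < 5 := by
      by_contra hk5
      have : 2 ^ 5 ≤ 2 ^ k := Nat.pow_le_pow_right (by norm_num) (by omega)
      omega
    interval_cases k <;> simp_all
  exact ⟨helem, hAT, hzT, hT8, n, ⟨hS'A hnP.1, hnN⟩, fun t ht => hfix n hnP hnT t ht, hcomA⟩

/-- **The torus step.** -/
theorem torusStep_aux (h : TwoCfg S A) (hall : AllToral A) (hout : ∃ e, Outer A e) :
    SmallCent A ∨ FourCent A := by
  have hA := h.cfg.elem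
  obtain ⟨e₀, he₀⟩ := hout
  obtain ⟨a₀, -, ha₀⟩ := hall e₀ he₀
  obtain ⟨z, T, hm⟩ := exists_largest ⟨_, ha₀⟩
  obtain ⟨hel, hAT, -, hT, hn⟩ := largest_facts htf hbs h hm
  rcases hT with h8 | h16
  · refine Or.inl ⟨⟨e₀, he₀⟩, fun e he P hP hle => ?_, fun e he => ?_⟩
    · obtain ⟨b, hb, ht⟩ := hall e he
      exact h8 ▸ hm.max _ ht P hP (by rwa [centTwo_mul hA hb])
    obtain ⟨b, hb, ht⟩ := hall e he
    set z' := e * b with hz'
    obtain ⟨hz'c, hz'2, hz'A⟩ := ht.1
    have hzp : IsPGroup 2 ↥(zpowers z') :=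
      IsPGroup.of_card (n := 1) (by rw [Nat.card_zpowers, hz'2, pow_one])
    set T' := zpowers z' ⊔ A
    have hT'p : IsPGroup 2 ↥T' := hzp.to_sup_of_normal_right' (isPGroup_of_elem hA)
      (zpowers_le.2 (centralizer_le_normalizer _ hz'c))
    have hT'le : T' ≤ centTwo A z' :=
      sup_le (zpowers_le.2 ⟨hz'c, mem_centralizer_singleton_iff.2 rfl⟩) (le_centTwo hA hz'c)
    have hm' : Largest A z' T' := ⟨ht, hT'p, hT'le, fun t ht' P hP hle => by
      refine (hm.max t ht' P hP hle).trans (h8.le.trans ?_)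
      obtain ⟨k, hk⟩ := IsPGroup.iff_card.1 hT'p
      have hlt : 4 < Nat.card T' := by
        refine h.card ▸ lt_of_le_of_ne (Nat.le_of_dvd Nat.card_pos
          (card_dvd_of_le (le_sup_right : A ≤ T'))) fun e' => hz'A ?_
        exact (eq_of_le_of_card_ge (le_sup_right : A ≤ T') e'.ge).symm ▸ mem_sup_left (mem_zpowers z')
      rw [hk] at hlt ⊢
      have hk3 : 3 ≤ k := by
        by_contra hk3
        have : 2 ^ k ≤ 2 ^ 2 := Nat.pow_le_pow_right (by norm_num) (by omega)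
        omega
      exact (show 8 = 2 ^ 3 by norm_num).le.trans (Nat.pow_le_pow_right (by norm_num) hk3)⟩
    obtain ⟨-, -, hz'T, -, n, ⟨hnA, -⟩, hnfix, hncom⟩ := largest_facts htf hbs h hm'
    obtain ⟨L, hL⟩ := frame_of_toral htf hbs h ht
    obtain ⟨g, ⟨hgA, hgz⟩, htr, hfpf⟩ := exists_rotation htf hbs h hz'c hL
    set w := n * z' * n⁻¹ * z'⁻¹ with hw
    have hwA : w ∈ A := hncom z' hz'T
    have hw1 : w ≠ 1 := fun e' => hz'A (hnfix z' hz'T
      (mul_inv_eq_iff_eq_mul.1 (mul_inv_eq_one.1 e')))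
    -- some element of `C(A)` moves `z'` to `e`
    obtain ⟨d, hdA, hde⟩ : ∃ d ∈ centralizer (A : Set G), d * z' * d⁻¹ = e := by
      have he' : e = b * z' := by
        rw [hz', ← mul_assoc, mem_centralizer_iff.1 he.1 b hb, mul_assoc, sq_of_mem hA hb, mul_one]
      by_cases hb1 : b = 1
      · exact ⟨1, one_mem _, by simp [hz', hb1]⟩
      obtain ⟨i, hi⟩ := htr w hwA b hb hw1 hb1
      refine ⟨g ^ i * n * (g ^ i)⁻¹, ?_, ?_⟩
      · refine mem_centralizer_iff.2 fun a ha => ?_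
        have h1 := mem_centralizer_iff.1 hnA _
          ((mem_normalizer_iff.1 (inv_mem (pow_mem hgA i)) a).1 ha)
        calc a * (g ^ i * n * (g ^ i)⁻¹) = g ^ i * ((g ^ i)⁻¹ * a * (g ^ i)⁻¹⁻¹ * n) * (g ^ i)⁻¹ := by
              group
          _ = g ^ i * (n * ((g ^ i)⁻¹ * a * (g ^ i)⁻¹⁻¹)) * (g ^ i)⁻¹ := by rw [h1]
          _ = g ^ i * n * (g ^ i)⁻¹ * a := by group
      · have hc : Commute (g ^ i) z' :=
          (show Commute g z' from mem_centralizer_singleton_iff.1 hgz).pow_left i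
        have h1 : (g ^ i)⁻¹ * z' * (g ^ i) = z' := by
          rw [mul_assoc, ← hc.eq, inv_mul_cancel_left]
        calc g ^ i * n * (g ^ i)⁻¹ * z' * (g ^ i * n * (g ^ i)⁻¹)⁻¹
            = g ^ i * (n * ((g ^ i)⁻¹ * z' * g ^ i) * n⁻¹) * (g ^ i)⁻¹ := by group
          _ = g ^ i * w * (g ^ i)⁻¹ * (g ^ i * z' * (g ^ i)⁻¹) := by rw [h1, hw]; group
          _ = e := by rw [hi, hc.eq, mul_inv_cancel_right, ← he']
    refine ⟨d * g * d⁻¹, ⟨(normalizer (A : Set G)).mul_mem
      ((normalizer (A : Set G)).mul_mem (centralizer_le_normalizer _ hdA) hgA)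
      ((normalizer (A : Set G)).inv_mem (centralizer_le_normalizer _ hdA)),
      mem_centralizer_singleton_iff.2 ?_⟩,
      fun a ha ha1 => ?_⟩
    · rw [← hde]
      calc d * g * d⁻¹ * (d * z' * d⁻¹) = d * (g * z') * d⁻¹ := by group
        _ = d * (z' * g) * d⁻¹ := by rw [mem_centralizer_singleton_iff.1 hgz]
        _ = d * z' * d⁻¹ * (d * g * d⁻¹) := by group
    · have h1 := conj_comm (inv_mem hdA) ha
      rw [inv_inv] at h1
      rw [show d * g * d⁻¹ * a * (d * g * d⁻¹)⁻¹ = d * (g * (d⁻¹ * a * d) * g⁻¹) * d⁻¹ by group, h1,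
        conj_comm hdA ((mem_normalizer_iff.1 hgA a).1 ha)]
      exact hfpf a ha ha1
  · exact Or.inr ⟨T, hel, hAT, h16, fun t ht htt P hP hle => h16 ▸ hm.max t htt P hP hle, hn⟩

/-- **The torus step**, as stated. -/
theorem torusStep : TorusStep.{u} := fun G _ _ S A h hall hout => torusStep_aux htf hbs h hall hout

end Cfsg.Agent.H1.WA
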