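import Cfsg.Agent.H77.WA.RankTwoDefs
import Cfsg.Agent.H21.WA.Link
import Cfsg.Agent.H52.Commuting.Product
import Cfsg.Agent.Fusion.Basic
import Cfsg.Agent.H39.Basic
import Cfsg.Agent.PGroups.Basic
import Cfsg.Agent.Components.PLocal

/-!
# Toral involutions of `C(A)`, `|A| = 4`

In `C(z)` modulo its core a toral `z` has a simple component with the image of `A` as a Sylow
2-subgroup, so a 2-subgroup of `C(A) ∩ C(z)` is the product of `A` and its part centralising that
component; an involution of that part is toral again.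
-/

set_option autoImplicit false
set_option linter.unusedSectionVars false
set_option linter.style.haveILetI false

namespace Cfsg.Agent.H1.WA

open Subgroup Cfsg.Agent
open Cfsg.Agent.H88.Walter (Bb pre cen vp qp core perfPart mem_pre)
open Cfsg.Agent.H21.Walter (coreProj coreImage coreProj_eq_one_iff)
open Cfsg.Agent.H21.WA (mem_coreImage coreImage_le_iff link)
open Cfsg.Agent.H10.Walter (AbSyl)
open Cfsg.Agent.H77.WA

universe u

local instance fact_two_torus : Fact (Nat.Prime 2) := ⟨Nat.prime_two⟩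

set_option linter.unusedVariables false

variable {G : Type u} [Group G] [Finite G] {S : Sylow 2 G} {A : Subgroup G} {z : G}

theorem comm_of_mem (hA : Cfsg.IsElementaryAbelian 2 A) {a b : G} (ha : a ∈ A) (hb : b ∈ A) :
    a * b = b * a :=
  haveI := hA.1
  congrArg Subtype.val (mul_comm' (⟨a, ha⟩ : ↥A) ⟨b, hb⟩)

theorem sq_of_mem (hA : Cfsg.IsElementaryAbelian 2 A) {a : G} (ha : a ∈ A) : a * a = 1 := by
  rw [← pow_two]; exact hA.2 a ha

theorem le_cent_self (hA : Cfsg.IsElementaryAbelian 2 A) : A ≤ centralizer (A : Set G) :=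
  fun _ ha => mem_centralizer_iff.2 fun _ hb => comm_of_mem hA hb ha

theorem isPGroup_of_elem (hA : Cfsg.IsElementaryAbelian 2 A) : IsPGroup 2 ↥A :=
  H47.isPGroup_of_elementaryAbelian hA

theorem le_cent (hz : z ∈ centralizer (A : Set G)) : A ≤ centralizer ({z} : Set G) :=
  H21.WA.le_centralizer_singleton hz

theorem eq_one_of_mem_core (hA : Cfsg.IsElementaryAbelian 2 A) {a : G} (ha : a ∈ A)
    (h : a ∈ core z) : a = 1 := by
  have hac : a ∈ centralizer ({z} : Set G) := H88.Walter.core_le z h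
  exact congrArg Subtype.val (H21.Walter.coreProj_injOn hA (x := ⟨a, hac⟩) ha
    ((coreProj_eq_one_iff (x := ⟨a, hac⟩)).2 h))

theorem conj_comm {g a : G} (hg : g ∈ centralizer (A : Set G)) (ha : a ∈ A) :
    g * a * g⁻¹ = a := by
  rw [← mem_centralizer_iff.1 hg a ha, mul_inv_cancel_right]

theorem centTwo_mul (hA : Cfsg.IsElementaryAbelian 2 A) {e a : G} (ha : a ∈ A) :
    centTwo A (e * a) = centTwo A e := by
  ext g
  simp only [centTwo, mem_inf, mem_centralizer_singleton_iff]
  refine and_congr_right fun hg => ?_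
  have h := mem_centralizer_iff.1 hg a ha
  constructor <;> intro h'
  · rw [← mul_assoc, mul_assoc e a g, h, ← mul_assoc] at h'
    exact mul_right_cancel h'
  · rw [← mul_assoc, h', mul_assoc e g a, ← h, mul_assoc]

theorem le_centTwo (hA : Cfsg.IsElementaryAbelian 2 A) (hz : z ∈ centralizer (A : Set G)) :
    A ≤ centTwo A z :=
  le_inf (le_cent_self hA) (le_cent hz)

/-- A normal subgroup of odd order of a quasisimple group is central. -/
theorem le_center_of_odd {X : Type u} [Group X] [Finite X] (h : Cfsg.IsQuasisimple X)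
    {N : Subgroup X} [N.Normal] (hN : Odd (Nat.card N)) : N ≤ center X := by
  rcases Components.qs_subnormal h (Subgroup.Normal.isSubnormal (H := N) inferInstance) with e | e
  · exfalso
    have hp : ⁅(⊤ : Subgroup X), ⊤⁆ = ⊤ := h.1.commutator_eq_top
    have h1 : (⊤ : Subgroup X) = ⊥ := H88.Walter.perfect_odd_eq_bot hp (e ▸ hN)
    exact Components.qs_center_ne_top h
      (top_le_iff.1 (h1.le.trans bot_le))
  · exact e

/-- What a toral involution gives in `C(z)` modulo its core. -/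
structure Frame (A : Subgroup G) (z : G) (L : Subgroup (Bb z)) : Prop where
  met : CMet A z L
  center_bot : center ↥L = ⊥
  ab : AbSyl (Quot L)
  le : coreImage z A ≤ L
  sylow : ∀ T : Sylow 2 ↥L, (coreImage z A).subgroupOf L ≤ (T : Subgroup ↥L) →
    (T : Subgroup ↥L) = (coreImage z A).subgroupOf L
  atype : AType (Quot L)
  torus : ∃ v u : Bb z, v ∈ coreImage z A ∧ v ∈ L ∧ v ≠ 1 ∧ u ∈ L ∧ Commute u v ∧
    u ∉ centralizer (coreImage z A : Set (Bb z))

theorem card_coreImage_A (hA : Cfsg.IsElementaryAbelian 2 A) (hz : z ∈ centralizer (A : Set G)) :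
    Nat.card (coreImage z A) = Nat.card A :=
  H21.Walter.card_coreImage hA le_rfl (le_cent hz)

theorem self_mem_cen (L : Subgroup (Bb z)) : z ∈ cen z L := by
  refine mem_pre.2 ⟨mem_centralizer_singleton_iff.2 rfl, mem_centralizer_iff.2 fun y _ => ?_⟩
  obtain ⟨g, rfl⟩ := H88.Walter.coreProj_surjective z y
  rw [← map_mul, ← map_mul]
  exact congrArg _ (Subtype.ext (mem_centralizer_singleton_iff.1 g.2))

variable (htf : TypeFacts.{u}) (hbs : BarStruct.{u})
include htf hbs

theorem frame_of_toral (h : TwoCfg S A) (hz : Toral A z) : ∃ L, Frame A z L := by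
  obtain ⟨⟨hzc, hz2, -⟩, L, hL, hc, hab, hT⟩ := hz
  refine ⟨L, hL, hc, hab, ?_, ?_, ?_, hT⟩ <;> have hS := hbs G S A h.cfg z hzc hz2
  · have hcard := card_coreImage_A h.cfg.elem hzc
    have h4 := hS.four L hL
    rw [hcard, h.card] at h4
    have hbot : coreImage z A ⊓ centralizer (L : Set (Bb z)) = ⊥ :=
      Subgroup.card_eq_one.1 (le_antisymm (by omega) Nat.card_pos)
    have h5 := hS.split L hL
    rw [hbot, sup_bot_eq] at h5
    exact h5.trans inf_le_right
  · intro T hT
    refine le_antisymm (fun t ht => ?_) hT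
    have hA' : AType (Quot L) := (hS.type L hL).resolve_right fun hN => hN.2.2.2 hab
    have hsq := (htf.ab _ hA' (T.mapSurjective (QuotientGroup.mk'_surjective _))).piece.sq
    have h2 : t * t ∈ center ↥L := (QuotientGroup.eq_one_iff _).1
      ((map_mul (QuotientGroup.mk' (center ↥L)) t t).trans (hsq _ ⟨t, ht, rfl⟩))
    have h3 := (hS.image L hL T hT t ht).1 h2
    rwa [hc, sup_bot_eq] at h3
  · exact (hS.type L hL).resolve_right fun hN => hN.2.2.2 hab

/-- A 2-element of `C(A) ∩ C(z)` acts on the component as an element of `A`. -/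
theorem exists_split (h : TwoCfg S A) {L : Subgroup (Bb z)} (hzc : z ∈ centralizer (A : Set G))
    (hz2 : orderOf z = 2) (hL : Frame A z L) {t : G} (ht : t ∈ centTwo A z)
    (ht2 : ∃ k : ℕ, t ^ 2 ^ k = 1) : ∃ a ∈ A, a⁻¹ * t ∈ cen z L := by
  have hS := hbs G S A h.cfg z hzc hz2
  have hAz := le_cent hzc
  set Ab := coreImage z A with hAb
  obtain ⟨htA, htz⟩ := ht
  set tb := coreProj z ⟨t, htz⟩ with htb
  have htc : ∀ a ∈ Ab, tb * a = a * tb := by
    intro a ha
    obtain ⟨g, hg, hgA, rfl⟩ := mem_coreImage.1 ha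
    rw [htb, ← map_mul, ← map_mul]
    exact congrArg _ (Subtype.ext (mem_centralizer_iff.1 htA g hgA).symm)
  have htN : tb ∈ normalizer (L : Set (Bb z)) := by
    refine H39.mem_normalizer_iff_map_conj.2 ?_
    by_contra hne
    have hc' := commutator_eq_bot_iff_le_centralizer.1
      (Components.components_commute (hS.met_conj L hL.met tb).1 hL.met.1 hne)
    refine hL.met.2 fun a ha => hc' ?_
    exact ⟨a, hL.le ha, by simp [htc a ha]⟩
  obtain ⟨T₀, hT₀⟩ := ((isPGroup_of_elem (H21.WA.elem_coreImage h.cfg.elem z) :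
    IsPGroup 2 ↥Ab).comap_subtype (K := L)).exists_le_sylow
  set π := QuotientGroup.mk' (center ↥L)
  have hπ : Function.Injective π := by
    rw [← MonoidHom.ker_eq_bot_iff, QuotientGroup.ker_mk', hL.center_bot]
  have hπs : Function.Surjective π := QuotientGroup.mk'_surjective _
  set e : ↥L ≃* Quot L := MulEquiv.ofBijective π ⟨hπ, hπs⟩
  let c : normalizer (L : Set (Bb z)) →* MulAut ↥L := L.normalizerMonoidHom
  set φ : MulAut (Quot L) := (MulAut.congr e) (c ⟨tb, htN⟩) with hφ
  have happ : ∀ x : ↥L, φ (e x) = e (c ⟨tb, htN⟩ x) := fun x => by simp [hφ]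
  have hT : (T₀ : Subgroup ↥L) = Ab.subgroupOf L := hL.sylow T₀ hT₀
  set T := T₀.mapSurjective hπs
  obtain ⟨k, hk⟩ := ht2
  have hk' : (⟨tb, htN⟩ : normalizer (L : Set (Bb z))) ^ 2 ^ k = 1 := Subtype.ext (by
    show tb ^ 2 ^ k = 1
    rw [htb, ← map_pow, show (⟨t, htz⟩ : ↥(centralizer ({z} : Set G))) ^ 2 ^ k = 1 from
      Subtype.ext (by simpa using hk), map_one])
  obtain ⟨w, hw, hinn⟩ := (htf.ab _ hL.atype T).inner φ
    ⟨k, by rw [hφ, ← map_pow, ← map_pow, hk', map_one, map_one]⟩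
    (by
      rintro _ ⟨x, hx, rfl⟩
      have hxA : (x : Bb z) ∈ Ab := mem_subgroupOf.1 (hT ▸ hx)
      show φ (e x) = e x
      rw [happ]
      refine congrArg e (Subtype.ext ?_)
      show tb * (x : Bb z) * tb⁻¹ = x
      rw [htc _ hxA, mul_inv_cancel_right])
  obtain ⟨x, hx, rfl⟩ := hw
  obtain ⟨a, haz, haA, hax⟩ := mem_coreImage.1 (mem_subgroupOf.1 (hT ▸ hx) : (x : Bb z) ∈ Ab)
  refine ⟨a, haA, mem_pre.2 ⟨mul_mem (inv_mem haz) htz, ?_⟩⟩
  show coreProj z (⟨a, haz⟩⁻¹ * ⟨t, htz⟩) ∈ _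
  rw [map_mul, map_inv, hax, ← htb]
  refine mem_centralizer_iff.2 fun y hy => ?_
  have h1 := congrArg (fun f : MulAut (Quot L) => f (e ⟨y, hy⟩)) hinn
  simp only [MulAut.conj_apply] at h1
  rw [happ, show π x = e x from rfl, ← map_inv, ← map_mul, ← map_mul] at h1
  have h2 : tb * y * tb⁻¹ = (x : Bb z) * y * (x : Bb z)⁻¹ := congrArg Subtype.val (e.injective h1)
  calc y * ((x : Bb z)⁻¹ * tb) = (x : Bb z)⁻¹ * ((x : Bb z) * y * (x : Bb z)⁻¹) * tb := by group
    _ = (x : Bb z)⁻¹ * tb * y := by rw [← h2]; group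

theorem inf_cen_eq_bot (h : TwoCfg S A) {L : Subgroup (Bb z)}
    (hzc : z ∈ centralizer (A : Set G)) (hL : Frame A z L) : A ⊓ cen z L = ⊥ := by
  refine (eq_bot_iff_forall _).2 fun a ha => ?_
  obtain ⟨hac, hc⟩ := mem_pre.1 ha.2
  have hm : coreProj z ⟨a, hac⟩ ∈ L := hL.le (mem_coreImage.2 ⟨a, hac, ha.1, rfl⟩)
  have hz' : (⟨_, hm⟩ : ↥L) ∈ center ↥L := mem_center_iff.2 fun y =>
    Subtype.ext (mem_centralizer_iff.1 hc y y.2)
  rw [hL.center_bot, mem_bot] at hz'
  exact eq_one_of_mem_core h.cfg.elem ha.1 (coreProj_eq_one_iff.1 (congrArg Subtype.val hz'))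

end Cfsg.Agent.H1.WA
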