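import Cfsg.Agent.H1.WA.TorusBasic

/-!
# An involution centralising the component of a toral one is toral
-/

set_option autoImplicit false
set_option linter.unusedSectionVars false
set_option linter.unusedVariables false
set_option linter.style.haveILetI false

namespace Cfsg.Agent.H1.WA

open Subgroup Cfsg.Agent
open Cfsg.Agent.H88.Walter (Bb pre cen vp qp core perfPart mem_pre)
open Cfsg.Agent.H21.Walter (coreProj coreImage coreProj_eq_one_iff)
open Cfsg.Agent.H21.WA (mem_coreImage coreImage_le_iff link)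
open Cfsg.Agent.H10.Walter (AbSyl)
open Cfsg.Agent.H77.WA
open scoped commutatorElement

universe u

local instance fact_two_torus_link : Fact (Nat.Prime 2) := ⟨Nat.prime_two⟩

variable {G : Type u} [Group G] [Finite G] {S : Sylow 2 G} {A : Subgroup G} {z : G}

/-- An element centralising the image of `A` fixes every met component. -/
theorem mem_normalizer_met {X : Type u} [Group X] [Finite X] {B L : Subgroup X} (hS : Struct B)
    (hL : Met B L) {y : X} (hy : ∀ b ∈ B, y * b = b * y) : y ∈ normalizer (L : Set X) := by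
  refine H39.mem_normalizer_iff_map_conj.2 ?_
  by_contra hne
  obtain ⟨b, ⟨hbB, hbL⟩, hb⟩ := H21.WA.exists_noncentral hS hL
  exact hb (commutator_eq_bot_iff_le_centralizer.1
    (Components.components_commute (hS.met_conj L hL y).1 hL.1 hne)
    ⟨b, hbL, by simp [hy b hbB]⟩)

/-- The elements of odd order of `H` do not all centralise `B` when `B` has odd index. -/
theorem exists_odd_not_mem {X : Type u} [Group X] [Finite X] {H K : Subgroup X}
    (hK : ¬ 2 ∣ K.relIndex H) (hne : ¬ H ≤ K) : ∃ o ∈ H, Odd (orderOf o) ∧ o ∉ K := by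
  by_contra hc
  push Not at hc
  have hi : K.relIndex H ≠ 1 := fun e => hne (relIndex_eq_one.1 e)
  obtain ⟨q, hq, hqd⟩ := Nat.exists_prime_and_dvd hi
  haveI : Fact q.Prime := ⟨hq⟩
  have hq2 : q ≠ 2 := fun e => hK (e ▸ hqd)
  obtain ⟨Q⟩ : Nonempty (Sylow q ↥H) := inferInstance
  refine Q.not_dvd_index (hqd.trans (Subgroup.index_dvd_of_le fun x hx => ?_))
  refine hc x x.2 ?_
  obtain ⟨k, hk⟩ := IsPGroup.iff_orderOf.1 Q.isPGroup' ⟨x, hx⟩
  rw [Subgroup.orderOf_mk] at hk
  rw [Subgroup.orderOf_coe, hk]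
  exact (hq.odd_of_ne_two hq2).pow

variable (htf : TypeFacts.{u}) (hbs : BarStruct.{u})
include htf hbs

/-- `N(A) ∩ C(z)` rotates `A`. -/
theorem exists_rotation (h : TwoCfg S A) (hzc : z ∈ centralizer (A : Set G))
    {L : Subgroup (Bb z)} (hL : Frame A z L) :
    ∃ g ∈ normalizer (A : Set G) ⊓ centralizer ({z} : Set G),
      (∀ a ∈ A, ∀ b ∈ A, a ≠ 1 → b ≠ 1 → ∃ i : ℕ, g ^ i * a * (g ^ i)⁻¹ = b) ∧
        ∀ a ∈ A, a ≠ 1 → g * a * g⁻¹ ≠ a := by
  have hAz := le_cent hzc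
  set Ab := coreImage z A with hAb
  obtain ⟨T₀, hT₀⟩ := ((isPGroup_of_elem (H21.WA.elem_coreImage h.cfg.elem z) :
    IsPGroup 2 ↥Ab).comap_subtype (K := L)).exists_le_sylow
  have hT : (T₀ : Subgroup ↥L) = Ab.subgroupOf L := hL.sylow T₀ hT₀
  set π := QuotientGroup.mk' (center ↥L)
  have hπ : Function.Injective π := by
    rw [← MonoidHom.ker_eq_bot_iff, QuotientGroup.ker_mk', hL.center_bot]
  obtain ⟨k', hkN, -, htr, -⟩ :=
    (htf.ab _ hL.atype (T₀.mapSurjective (QuotientGroup.mk'_surjective _))).singer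
  obtain ⟨k, rfl⟩ := QuotientGroup.mk'_surjective _ k'
  have hkA : (k : Bb z) ∈ normalizer (Ab : Set (Bb z)) := by
    refine H39.mem_normalizer_of_conj_mem fun a ha => ?_
    have h1 : π ⟨a, hL.le ha⟩ ∈ (T₀ : Subgroup ↥L).map π :=
      mem_map_of_mem π (by rw [hT]; exact mem_subgroupOf.2 ha)
    obtain ⟨y, hy, hye⟩ := (mem_normalizer_iff.1 hkN _).1 h1
    rw [← map_inv, ← map_mul, ← map_mul] at hye
    have h2 := congrArg Subtype.val (hπ hye)
    simp only [Subgroup.coe_mul, InvMemClass.coe_inv] at h2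
    exact h2 ▸ mem_subgroupOf.1 (hT ▸ hy : y ∈ Ab.subgroupOf L)
  have hlift : normalizer (Ab : Set (Bb z)) =
      (normalizer ((A.subgroupOf (centralizer ({z} : Set G))) : Set _)).map (coreProj z) := by
    rw [coreProj, Components.map_normalizer_of_coprime _ Cores.coprime_card_pPrimeCore
      (show IsPGroup 2 ↥(A.subgroupOf (centralizer ({z} : Set G))) from
        (isPGroup_of_elem h.cfg.elem).comap_subtype)]
    rfl
  rw [hlift] at hkA
  obtain ⟨g, hgN, hgk⟩ := hkA
  have hgA : (g : G) ∈ normalizer (A : Set G) := H39.mem_normalizer_of_conj_mem fun a ha =>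
    (mem_normalizer_iff.1 hgN ⟨a, hAz ha⟩).1 ha
  have key : ∀ a ∈ A, ∀ b ∈ A, a ≠ 1 → b ≠ 1 →
      ∃ i : ℕ, (g : G) ^ i * a * ((g : G) ^ i)⁻¹ = b := by
    intro a ha b hb ha1 hb1
    have hm : ∀ {c : G} (hc : c ∈ A), coreProj z ⟨c, hAz hc⟩ ∈ Ab := fun hc =>
      mem_coreImage.2 ⟨_, hAz hc, hc, rfl⟩
    have hne : ∀ {c : G} (hc : c ∈ A), c ≠ 1 → π ⟨_, hL.le (hm hc)⟩ ≠ 1 := fun {c} hc hc1 e =>
      hc1 (eq_one_of_mem_core h.cfg.elem hc (coreProj_eq_one_iff.1
        (congrArg Subtype.val (hπ (e.trans (map_one π).symm)))))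
    obtain ⟨i, hi⟩ := htr _ (mem_map_of_mem π (by rw [hT]; exact mem_subgroupOf.2 (hm ha)))
      _ (mem_map_of_mem π (by rw [hT]; exact mem_subgroupOf.2 (hm hb))) (hne ha ha1) (hne hb hb1)
    rw [← map_pow, ← map_inv, ← map_mul, ← map_mul] at hi
    have h2 := congrArg Subtype.val (hπ hi)
    simp only [Subgroup.coe_mul, InvMemClass.coe_inv, SubmonoidClass.coe_pow, ← hgk,
      ← map_pow, ← map_inv, ← map_mul] at h2
    have hin : (g : G) ^ i * a * ((g : G) ^ i)⁻¹ ∈ A :=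
      (mem_normalizer_iff.1 (pow_mem hgA i) a).1 ha
    refine ⟨i, inv_mul_eq_one.1 (eq_one_of_mem_core (z := z) h.cfg.elem
      (mul_mem (inv_mem hin) hb) ?_)⟩
    have h3 : coreProj z ((g ^ i * ⟨a, hAz ha⟩ * (g ^ i)⁻¹)⁻¹ * ⟨b, hAz hb⟩) = 1 := by
      rw [map_mul, map_inv, h2, inv_mul_cancel]
    simpa using coreProj_eq_one_iff.1 h3
  refine ⟨g, ⟨hgA, g.2⟩, key, fun a ha ha1 e => ?_⟩
  have hsub : (A : Set G) ⊆ {1, a} := fun b hb => by
    by_cases hb1 : b = 1
    · exact Or.inl hb1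
    obtain ⟨i, hi⟩ := key a ha b hb ha1 hb1
    refine Or.inr (hi ▸ ?_)
    clear hi
    induction i with
    | zero => simp
    | succ i ih =>
      rw [show (g : G) ^ (i + 1) * a * ((g : G) ^ (i + 1))⁻¹ =
        (g : G) ^ i * ((g : G) * a * (g : G)⁻¹) * ((g : G) ^ i)⁻¹ by rw [pow_succ]; group, e]
      exact ih
  have hcard := Set.ncard_le_ncard hsub (Set.toFinite _)
  rw [← Nat.card_coe_set_eq] at hcard
  have h2 : ({1, a} : Set G).ncard ≤ 2 := (Set.ncard_insert_le _ _).trans (by simp)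
  have h4 : Nat.card ↥(A : Set G) = 4 := h.card
  omega

/-- An involution of `C(A) ∖ A` centralising the component of a toral one is toral. -/
theorem toral_of_cen (h : TwoCfg S A) (hz : Outer A z) {L : Subgroup (Bb z)} (hL : Frame A z L)
    {x : G} (hx : Outer A x) (hxL : x ∈ cen z L) : Toral A x := by
  obtain ⟨hzc, hz2, -⟩ := hz
  obtain ⟨hxc, hx2, -⟩ := id hx
  have hSx := hbs G S A h.cfg x hxc hx2
  have hAz := le_cent hzc
  have hAx := le_cent hxc
  obtain ⟨J, hJ, hv, hq, hM, him⟩ := link h.cfg hbs htf hzc hz2 hxc hx2 hL.met hxL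
  set D := centralizer ({x} : Set G) ⊓ pre z L
  set M := perfPart D
  have hMp : ⁅M, M⁆ = M := H88.Walter.perfPart_perfect D
  have hMx : M ≤ centralizer ({x} : Set G) := (H88.Walter.perfPart_le D).trans inf_le_left
  have hMpre : M ≤ pre z L := (H88.Walter.perfPart_le D).trans inf_le_right
  have hMz : M ≤ centralizer ({z} : Set G) := hMpre.trans (H88.Walter.pre_le z L)
  have hAL : A ≤ pre z L := (coreImage_le_iff hAz).1 hL.le
  have hAJ : A ≤ pre x J := fun a ha => (hv ⟨ha, hAL ha⟩).2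
  have hAM : A ≤ normalizer (M : Set G) :=
    ((le_inf hAx hAL).trans le_normalizer).trans (H88.Walter.normalizer_le_perfPart D)
  -- the elements of `M` trivial at `x` are trivial at `z`
  have hker : coreImage z (M ⊓ core x) = ⊥ := by
    set N := coreImage z (M ⊓ core x)
    have hNL : N ≤ L := (coreImage_le_iff (inf_le_left.trans hMz)).2 (inf_le_left.trans hMpre)
    have hn : L ≤ normalizer (N : Set (Bb z)) := him ▸ H21.WA.coreImage_le_normalizer
      ((le_inf le_normalizer (hMx.trans (H88.Walter.core_normal x))).trans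
        inf_normalizer_le_normalizer_inf)
    haveI : (N.subgroupOf L).Normal := normal_subgroupOf_of_le_normalizer hn
    have hodd : Odd (Nat.card ↥(N.subgroupOf L)) := by
      rw [Nat.card_congr (subgroupOfEquivOfLe hNL).toEquiv]
      exact H21.Walter.card_coreImage_odd z fun he => Nat.not_even_iff_odd.2
        (H88.Walter.odd_of_le (H88.Walter.core_odd x) inf_le_right) (even_iff_two_dvd.2 he)
    have h1 := le_center_of_odd hL.met.1.2 hodd
    rw [hL.center_bot, le_bot_iff, subgroupOf_eq_bot] at h1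
    rw [← inf_eq_left.2 hNL]
    exact disjoint_iff.1 h1
  -- an element of odd order over the torus
  obtain ⟨v, u, hvA, hvL, hv1, huL, huv, huA⟩ := hL.torus
  obtain ⟨v₀, hv₀z, hv₀A, rfl⟩ := mem_coreImage.1 hvA
  set Ab := coreImage z A with hAb
  obtain ⟨o, ⟨hoL, hov⟩, hoodd, hoA⟩ := exists_odd_not_mem
    (H := L ⊓ centralizer ({coreProj z ⟨v₀, hv₀z⟩} : Set (Bb z)))
    (K := centralizer (Ab : Set (Bb z))) (by
      intro h2
      have hle : Ab ≤ centralizer (Ab : Set (Bb z)) :=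
        le_cent_self (H21.WA.elem_coreImage h.cfg.elem z)
      obtain ⟨T₀, hT₀⟩ := ((isPGroup_of_elem (H21.WA.elem_coreImage h.cfg.elem z) :
        IsPGroup 2 ↥Ab).comap_subtype (K := L)).exists_le_sylow
      have h3 : ¬ 2 ∣ Ab.relIndex L := by
        rw [relIndex, ← hL.sylow T₀ hT₀]; exact T₀.not_dvd_index
      have hvc : Ab ≤ L ⊓ centralizer ({coreProj z ⟨v₀, hv₀z⟩} : Set (Bb z)) :=
        le_inf hL.le fun a ha => mem_centralizer_singleton_iff.2
          (comm_of_mem (H21.WA.elem_coreImage h.cfg.elem z) ha hvA)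
      refine h3 (h2.trans ?_)
      exact (Subgroup.relIndex_dvd_of_le_left _ hle).trans
        (dvd_of_mul_right_eq _ (relIndex_mul_relIndex _ _ _ hvc inf_le_left)))
    (fun hle => huA (hle ⟨huL, mem_centralizer_singleton_iff.2 huv.eq⟩))
  obtain ⟨m, hmz, hmM, hme⟩ := mem_coreImage.1 (show o ∈ coreImage z M by rw [him]; exact hoL)
  obtain ⟨n, hn, hnc⟩ := Coprime.exists_commute_mem_coset (k := m) (p := 2)
    (P := zpowers v₀) (N := M ⊓ core z)
    ((isPGroup_of_elem h.cfg.elem).to_le (zpowers_le.2 hv₀A))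
    (zpowers_le.2 (inf_normalizer_le_normalizer_inf
      ⟨hAM hv₀A, H88.Walter.core_normal z hv₀z⟩))
    (fun he => Nat.not_even_iff_odd.2 (H88.Walter.odd_of_le (H88.Walter.core_odd z) inf_le_right)
      (even_iff_two_dvd.2 (he : 2 ∣ Nat.card ↥(M ⊓ core z : Subgroup G))))
    (by
      intro a ha
      have haz : a ∈ centralizer ({z} : Set G) := zpowers_le.2 hv₀z ha
      refine ⟨M.mul_mem (M.inv_mem hmM) (Coprime.conj_mem (zpowers_le.2 (hAM hv₀A) ha) hmM), ?_⟩
      refine (coreProj_eq_one_iff (x := ⟨m, hmz⟩⁻¹ * (⟨a, haz⟩ * ⟨m, hmz⟩ * ⟨a, haz⟩⁻¹))).1 ?_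
      obtain ⟨i, rfl⟩ := mem_zpowers_iff.1 ha
      have hc : Commute (coreProj z ⟨v₀ ^ i, haz⟩) o := by
        rw [show (⟨v₀ ^ i, haz⟩ : ↥(centralizer ({z} : Set G))) = ⟨v₀, hv₀z⟩ ^ i from
          Subtype.ext (by simp), map_zpow]
        exact (show Commute (coreProj z ⟨v₀, hv₀z⟩) o from
          (mem_centralizer_singleton_iff.1 hov).symm).zpow_left i
      rw [map_mul, map_mul, map_mul, map_inv, map_inv, hme, hc.eq]
      group)
  obtain ⟨k, hk⟩ : ∃ k : ℕ, ∃ r : ℕ, Odd r ∧ orderOf (m * n) = 2 ^ k * r := by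
    obtain ⟨k, r, hr, e⟩ := Nat.exists_eq_two_pow_mul_odd (orderOf_pos (m * n)).ne'
    exact ⟨k, r, hr, e⟩
  obtain ⟨r, hr, hord⟩ := hk
  set g := (m * n) ^ 2 ^ k with hg
  have hgM : g ∈ M := pow_mem (mul_mem hmM hn.1) _
  have hgz := hMz hgM
  have hgx := hMx hgM
  have hgv : Commute g v₀ :=
    (show Commute (m * n) v₀ from (mem_centralizer_iff.1 hnc v₀ (mem_zpowers v₀)).symm).pow_left _
  have hgodd : Odd (orderOf g) := by
    rw [hg, orderOf_pow' _ (by positivity), hord, Nat.gcd_eq_right (dvd_mul_right _ _),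
      Nat.mul_div_cancel_left _ (by positivity)]
    exact hr
  have hgo : coreProj z ⟨g, hgz⟩ = o ^ 2 ^ k := by
    rw [show (⟨g, hgz⟩ : ↥(centralizer ({z} : Set G))) =
      (⟨m, hmz⟩ * ⟨n, H88.Walter.core_le z hn.2⟩) ^ 2 ^ k from Subtype.ext (by simp [hg]),
      map_pow, map_mul, hme, (coreProj_eq_one_iff (x := ⟨n, H88.Walter.core_le z hn.2⟩)).2 hn.2,
      mul_one]
  have hgA : coreProj z ⟨g, hgz⟩ ∉ centralizer (Ab : Set (Bb z)) := by
    rw [hgo]
    intro hc
    obtain ⟨j, hj⟩ := exists_pow_eq_self_of_coprime (x := o) (n := 2 ^ k)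
      ((Nat.coprime_two_left.2 hoodd).pow_left k)
    exact hoA (hj ▸ pow_mem hc j)
  -- at `x`
  set Ax := coreImage x A with hAx'
  have hAxel := H21.WA.elem_coreImage h.cfg.elem x
  have hgJ : coreProj x ⟨g, hgx⟩ ∈ J := by
    obtain ⟨_, hm⟩ := mem_pre.1 (hM hgM); exact hm
  have hvJ : coreProj x ⟨v₀, hAx hv₀A⟩ ∈ J := by
    obtain ⟨_, hm⟩ := mem_pre.1 (hAJ hv₀A); exact hm
  have hcomm : Commute (coreProj x ⟨g, hgx⟩) (coreProj x ⟨v₀, hAx hv₀A⟩) := by
    show _ * _ = _ * _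
    rw [← map_mul, ← map_mul]
    exact congrArg _ (Subtype.ext hgv.eq)
  have hv₀1 : v₀ ≠ 1 := fun e => hv1 (by subst e; exact map_one (coreProj z))
  have hab : AbSyl (Quot J) := by
    by_contra hna
    have hNT : NType (Quot J) := (hSx.type J hJ).resolve_left fun h' => hna h'.2.2.1
    set π := QuotientGroup.mk' (center ↥J)
    have hπs : Function.Surjective π := QuotientGroup.mk'_surjective _
    obtain ⟨T₀, hT₀⟩ := ((isPGroup_of_elem hAxel : IsPGroup 2 ↥Ax).comap_subtype (K := J)).exists_le_sylow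
    obtain ⟨V, hV⟩ := htf.nab _ hNT (T₀.mapSurjective hπs)
    have hzx : z ∈ centralizer ({x} : Set G) := mem_centralizer_singleton_iff.2
      (mem_centralizer_singleton_iff.1 (H88.Walter.pre_le z _ hxL)).symm
    set zb : Bb x := coreProj x ⟨z, hzx⟩ with hzb
    have hzN : zb ∈ normalizer (J : Set (Bb x)) := mem_normalizer_met hSx hJ fun b hb => by
      obtain ⟨a, hax, haA, rfl⟩ := mem_coreImage.1 hb
      rw [hzb, ← map_mul, ← map_mul]
      exact congrArg _ (Subtype.ext (mem_centralizer_iff.1 hzc a haA).symm)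
    have hzb2 : zb * zb = 1 := by
      rw [hzb, ← map_mul, show (⟨z, hzx⟩ : ↥(centralizer ({x} : Set G))) * ⟨z, hzx⟩ = 1 from
        Subtype.ext (show z * z = 1 by rw [← pow_two, ← hz2, pow_orderOf_eq_one]), map_one]
    set c : MulAut ↥J := J.normalizerMonoidHom ⟨zb, hzN⟩
    set φ : MulAut (Quot J) := QuotientGroup.congr (center ↥J) (center ↥J) c
      (Subgroup.characteristic_iff_map_eq.1 inferInstance c)
    have happ : ∀ j : ↥J, φ (π j) = π (c j) := fun j => rfl
    have hcval : ∀ j : ↥J, ((c j : ↥J) : Bb x) = zb * j * zb⁻¹ := fun j => rfl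
    have hcfix : ∀ {y : G} (hy : y ∈ centralizer ({x} : Set G)), Commute z y →
        ∀ hyJ : coreProj x ⟨y, hy⟩ ∈ J, φ (π ⟨_, hyJ⟩) = π ⟨_, hyJ⟩ := fun {y} hy hzy hyJ => by
      rw [happ]
      refine congrArg π (Subtype.ext ?_)
      rw [hcval, hzb, ← map_mul, ← map_inv, ← map_mul]
      exact congrArg _ (Subtype.ext (show z * y * z⁻¹ = y by rw [hzy.eq, mul_inv_cancel_right]))
    have hφ2 : φ * φ = 1 := by
      refine MulEquiv.ext fun q => ?_
      obtain ⟨j, rfl⟩ := hπs q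
      show φ (φ (π j)) = π j
      rw [happ, happ]
      refine congrArg π (Subtype.ext ?_)
      have e : zb⁻¹ = zb := inv_eq_of_mul_eq_one_right hzb2
      rw [hcval, hcval, e, show zb * (zb * (j : Bb x) * zb) * zb =
        (zb * zb) * j * (zb * zb) by group, hzb2, one_mul, mul_one]
    have hfixV : ∀ q ∈ V, φ q = q := by
      intro q hq
      obtain ⟨hqT, hq2⟩ := (hV.mem_iff q).1 hq
      obtain ⟨t, ht, rfl⟩ := hqT
      have h2 := (hSx.image J hJ T₀ hT₀ t ht).1
        ((QuotientGroup.eq_one_iff _).1 ((map_mul π t t).trans hq2))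
      obtain ⟨a, ha, w, hw, rfl⟩ := mem_sup_of_normal_right.1 h2
      rw [map_mul, show π w = 1 from (QuotientGroup.eq_one_iff _).2 hw, mul_one]
      obtain ⟨b, hbx, hbA, hbe⟩ := mem_coreImage.1 (mem_subgroupOf.1 ha)
      have := hcfix hbx (show Commute z b from (mem_centralizer_iff.1 hzc b hbA).symm)
        (hbe.symm ▸ a.2)
      simpa only [hbe] using this
    set y := π ⟨_, hgJ⟩
    set q := π ⟨_, hvJ⟩
    have hvq : q ∈ V := (hV.mem_iff q).2 ⟨mem_map_of_mem π (hT₀ (mem_subgroupOf.2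
      (mem_coreImage.2 ⟨v₀, hAx hv₀A, hv₀A, rfl⟩))), by
      rw [← map_mul, show (⟨_, hvJ⟩ : ↥J) * ⟨_, hvJ⟩ = 1 from Subtype.ext
        (sq_of_mem hAxel (mem_coreImage.2 ⟨v₀, hAx hv₀A, hv₀A, rfl⟩)), map_one]⟩
    have hcenJ : ∀ {w : G} (hw : w ∈ centralizer ({x} : Set G))
        (hwJ : coreProj x ⟨w, hw⟩ ∈ J), π ⟨_, hwJ⟩ = 1 → w ∈ cen x J := fun hw hwJ e =>
      mem_pre.2 ⟨hw, mem_centralizer_iff.2 fun j hj => congrArg Subtype.val
        (mem_center_iff.1 ((QuotientGroup.eq_one_iff _).1 e) ⟨j, hj⟩)⟩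
    have hq1 : q ≠ 1 := fun e => hv₀1 (by
      have h1 : v₀ ∈ qp A z L := hq ⟨hv₀A, hcenJ _ hvJ e⟩
      have h2 : v₀ ∈ A ⊓ cen z L := h1
      rwa [inf_cen_eq_bot htf hbs h hzc hL, mem_bot] at h2)
    have hy1 : y ≠ 1 := fun e => by
      have h1 := H21.WA.centralizer_inf_cen_le hL.met.1 hMz hMx him hM
        ⟨hgz, hcenJ _ hgJ e⟩
      obtain ⟨_, hc⟩ := mem_pre.1 h1
      have hm : coreProj z ⟨g, hgz⟩ ∈ L := by obtain ⟨_, hm⟩ := mem_pre.1 (hMpre hgM); exact hm
      have hzc' : (⟨_, hm⟩ : ↥L) ∈ center ↥L := mem_center_iff.2 fun w =>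
        Subtype.ext (mem_centralizer_iff.1 hc w w.2)
      rw [hL.center_bot, mem_bot] at hzc'
      exact hgA (by rw [show coreProj z ⟨g, hgz⟩ = 1 from congrArg Subtype.val hzc']; exact one_mem _)
    have hyodd : Odd (orderOf y) := hgodd.of_dvd_nat (by
      refine orderOf_dvd_of_pow_eq_one ?_
      rw [← map_pow, show (⟨_, hgJ⟩ : ↥J) ^ orderOf g = 1 from Subtype.ext (by
        show coreProj x ⟨g, hgx⟩ ^ orderOf g = 1
        rw [← map_pow, show (⟨g, hgx⟩ : ↥(centralizer ({x} : Set G))) ^ orderOf g = 1 from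
          Subtype.ext (by simp [pow_orderOf_eq_one]), map_one]), map_one])
    have hrig := hV.rigid φ ⟨1, by rw [pow_one, pow_two]; exact hφ2⟩ hfixV q hvq hq1 y
      ((show Commute (⟨_, hgJ⟩ : ↥J) ⟨_, hvJ⟩ from Subtype.ext hcomm.eq).map π) hyodd hy1
      (hcfix hgx (show Commute z g from (mem_centralizer_singleton_iff.1 hgz).symm) hgJ)
    obtain ⟨w, hwT, hinn⟩ := hV.inner φ ⟨1, by rw [pow_one, pow_two]; exact hφ2⟩ hfixV hrig
    have hw2 : w * w = 1 := by
      have hmem : w * w ∈ center (Quot J) := mem_center_iff.2 fun q' => by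
        have h2 := congrArg (fun f : MulAut (Quot J) => f q') hφ2
        simp only [hinn, MulAut.mul_apply, MulAut.conj_apply, MulAut.one_apply] at h2
        calc q' * (w * w) = (w * (w * q' * w⁻¹) * w⁻¹) * (w * w) := by rw [h2]
          _ = w * w * q' := by group
      haveI := hNT.1
      rcases (show (center (Quot J)).Normal from inferInstance).eq_bot_or_eq_top with e | e
      · rwa [e, mem_bot] at hmem
      · exact absurd ⟨⟨fun a b => (mem_center_iff.1 (e ▸ mem_top b : b ∈ center (Quot J)) a)⟩⟩ hNT.2.1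
    have hMJ : coreImage x M ≤ J := (coreImage_le_iff hMx).2 hM
    by_cases hw1 : w = 1
    · have hzJ : z ∈ cen x J := by
        refine mem_pre.2 ⟨hzx, ?_⟩
        have hle : ⁅⁅zpowers zb, J⁆, J⁆ = ⊥ := by
          rw [commutator_eq_bot_iff_le_centralizer, commutator_le]
          intro a ha j hj
          obtain ⟨i, rfl⟩ := mem_zpowers_iff.1 ha
          have hz' : ∀ j' ∈ J, ⁅zb, j'⁆ ∈ centralizer (J : Set (Bb x)) := by
            intro j' hj'
            have h1 := happ ⟨j', hj'⟩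
            rw [hinn, hw1, map_one, MulAut.one_apply] at h1
            have h2 : c ⟨j', hj'⟩ * (⟨j', hj'⟩ : ↥J)⁻¹ ∈ center ↥J :=
              (QuotientGroup.eq_one_iff _).1 (by
                show π (c ⟨j', hj'⟩ * (⟨j', hj'⟩ : ↥J)⁻¹) = 1
                rw [map_mul, map_inv, ← h1, mul_inv_cancel])
            exact mem_centralizer_iff.2 fun y' hy' => congrArg Subtype.val
              (mem_center_iff.1 h2 ⟨y', hy'⟩)
          rcases Int.even_or_odd i with ⟨l, rfl⟩ | ⟨l, rfl⟩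
          · rw [← two_mul, zpow_mul, zpow_two, hzb2, one_zpow, commutatorElement_one_left]
            exact one_mem _
          · rw [zpow_add_one, zpow_mul, zpow_two, hzb2, one_zpow, one_mul]
            exact hz' j hj
        exact commutator_eq_bot_iff_le_centralizer.1 (Components.commutator_eq_bot_of_perfect'
          (Components.component_perfect hJ.1) hle) (mem_zpowers zb)
      obtain ⟨J', hJ', -, -, hM', him'⟩ := link h.cfg hbs htf hxc hx2 hzc hz2 hJ hzJ
      set M' := perfPart (centralizer ({z} : Set G) ⊓ pre x J)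
      have hMM : M ≤ M' := H88.Walter.le_perfPart (le_inf hMz hM) hMp
      have hM'z : M' ≤ centralizer ({z} : Set G) := (H88.Walter.perfPart_le _).trans inf_le_left
      have hLJ : L ≤ J' := him ▸ (coreImage_le_iff hMz).2 (hMM.trans hM')
      obtain rfl := Components.component_eq_of_le hL.met.1 hJ'.1 hLJ
      refine hna ((H21.WA.absyl_of_link hM'z
        ((H88.Walter.perfPart_le _).trans (inf_le_right.trans (H88.Walter.pre_le x J)))
        ((coreImage_le_iff hM'z).2 hM') him' ?_).surj _ hπs)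
      exact H21.WA.absyl_of_ker (QuotientGroup.mk' (center ↥L))
        (by rw [QuotientGroup.ker_mk', hL.center_bot, card_bot]; exact odd_one) hL.ab
    · refine H21.WA.not_le_core hL.met.1 hMp him ((H21.WA.coreImage_eq_bot_iff hMx).1 ?_)
      refine H21.WA.perfect_eq_bot (H21.WA.solvable_of_image hMJ
        (hV.soluble w (orderOf_eq_prime (by rw [pow_two, hw2]) hw1)) ?_) le_rfl
        (H21.WA.perfect_coreImage' hMx hMp)
      rintro _ ⟨⟨j, hj⟩, hjm, rfl⟩
      obtain ⟨m', hm'x, hm', rfl⟩ := mem_coreImage.1 (mem_subgroupOf.1 hjm : j ∈ coreImage x M)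
      have h1 := hcfix hm'x (show Commute z m' from
        (mem_centralizer_singleton_iff.1 (hMz hm')).symm) hj
      rw [hinn, MulAut.conj_apply] at h1
      exact mem_centralizer_singleton_iff.2 (mul_inv_eq_iff_eq_mul.1 h1).symm
  refine ⟨hx, J, hJ, hSx.center_bot J hJ hab, hab, coreProj x ⟨v₀, hAx hv₀A⟩,
    coreProj x ⟨g, hgx⟩, mem_coreImage.2 ⟨v₀, _, hv₀A, rfl⟩, hvJ, ?_, hgJ, hcomm, ?_⟩
  · exact fun e => hv₀1 (eq_one_of_mem_core h.cfg.elem hv₀A (coreProj_eq_one_iff.1 e))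
  · intro hc
    refine hgA (mem_centralizer_iff.2 fun b hb => ?_)
    obtain ⟨a, haz, haA, rfl⟩ := mem_coreImage.1 hb
    have hax := hAx haA
    have h1 : coreProj x (⟨g, hgx⟩⁻¹ * (⟨a, hax⟩ * ⟨g, hgx⟩ * ⟨a, hax⟩⁻¹)) = 1 := by
      rw [map_mul, map_mul, map_mul, map_inv, map_inv,
        mem_centralizer_iff.1 hc _ (mem_coreImage.2 ⟨a, hax, haA, rfl⟩)]
      group
    have hmem : g⁻¹ * (a * g * a⁻¹) ∈ M ⊓ core x :=
      ⟨M.mul_mem (M.inv_mem hgM) (Coprime.conj_mem (hAM haA) hgM), coreProj_eq_one_iff.1 h1⟩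
    have h2 : coreProj z (⟨g, hgz⟩⁻¹ * (⟨a, haz⟩ * ⟨g, hgz⟩ * ⟨a, haz⟩⁻¹)) = 1 := by
      rw [← mem_bot, ← hker]
      exact mem_coreImage.2 ⟨_, _, hmem, rfl⟩
    rw [map_mul, map_mul, map_mul, map_inv, map_inv, inv_mul_eq_one, eq_mul_inv_iff_mul_eq] at h2
    exact h2.symm

end Cfsg.Agent.H1.WA
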